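import Cfsg.Agent.Lib.BlockH.Rank
import Cfsg.Agent.Lib.BlockT.Inflate
import Mathlib.Tactic

/-!
# The principal block and normal subgroups of `p`-power index

* `mem_principal_of_constituent`: if `G/N` is a `p`-group, each irreducible character of `G` lying over
  a member of the principal block of `N` lies in the principal block of `G`.
* `dvd_sum_sq_of_dvd_card`: if `p ∣ |G|`, `p` divides the sum of the squares of the degrees of the
  members of a block.
-/

set_option autoImplicit false
set_option linter.unusedSectionVars false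
set_option linter.style.haveILetI false

namespace Cfsg.Agent.Lib.BlockCover.Basic

open Cfsg
open Cfsg.Agent.Lib.Char.Basic Cfsg.Agent.Lib.Char.Ortho Cfsg.Agent.Lib.Char.Complete
open Cfsg.Agent.Lib.Blocks.Local Cfsg.Agent.Lib.Blocks.Central
open Cfsg.Agent.Lib.BlockT.Normal
open scoped ComplexConjugate

variable {G : Type*} [Group G] [Fintype G] {M : Ideal AlgInt} {p : ℕ}

/-- A `p`-regular element lies in each normal subgroup of `p`-power index. -/
theorem mem_of_not_dvd_orderOf {N : Subgroup G} [hN : N.Normal] (hp : p.Prime)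
    (hidx : ∃ k, N.index = p ^ k) {g : G} (hg : ¬ p ∣ orderOf g) : g ∈ N := by
  obtain ⟨k, hk⟩ := hidx
  have h1 : g ^ N.index ∈ N := Subgroup.pow_index_mem N g
  rw [hk] at h1
  have hcop : Nat.Coprime (p ^ k) (orderOf g) :=
    Nat.Coprime.pow_left _ ((Nat.Prime.coprime_iff_not_dvd hp).mpr hg)
  obtain ⟨m, hm⟩ := exists_pow_eq_self_of_coprime hcop
  rw [← hm]
  exact N.pow_mem h1 m

/-- If `G/N` is a `p`-group, each irreducible character of `G` lying over a member of the principal
block of `N` lies in the principal block of `G`. -/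
theorem mem_principal_of_constituent (hM : IsPModular p M) {N : Subgroup G} [hN : N.Normal]
    [Fintype N] (hidx : ∃ k, N.index = p ^ k) (χ : IrrCharacter G) (θ : IrrCharacter N)
    (hθ : θ ∈ principalBlock M N)
    (hcon : classInner (fun n : N => (χ : G → ℂ) n) (θ : N → ℂ) ≠ 0) :
    χ ∈ principalBlock M G := by
  classical
  haveI := isPrime_of_pModular hM
  haveI := Cfsg.Agent.Lib.Char.Ortho.finite_irrCharacter (G := G)
  letI := Fintype.ofFinite (IrrCharacter G)
  set B := principalBlock M G with hB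
  set f : G → ℂ := blockCoeff B with hf
  let a : N → ℂ := fun n => f n
  have hsupp : ∀ g : G, g ∉ N → f g = 0 := by
    intro g hg
    apply Cfsg.Agent.Lib.BlockH.Idem.blockCoeff_eq_zero_of_dvd_orderOf hM
      (Cfsg.Agent.Lib.Blocks.Third.isPBlock_principal M)
    by_contra h
    exact hg (mem_of_not_dvd_orderOf hM.1 hidx h)
  have hsum : ∀ F : G → ℂ, ∑ n : N, a n * F n = ∑ g : G, f g * F g := by
    intro F
    have h1 : ∑ g : G, f g * F g = ∑ g ∈ Finset.univ.filter (· ∈ N), f g * F g := by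
      symm
      apply Finset.sum_filter_of_ne
      intro g _ hg
      by_contra hgN
      exact hg (by rw [hsupp g hgN, zero_mul])
    rw [h1]
    exact (Finset.sum_subtype (Finset.univ.filter (· ∈ N)) (by simp) (fun g => f g * F g)).symm
  have hainv : ∀ (t : G) (n : N), a ⟨t * n * t⁻¹, hN.conj_mem n n.2 t⟩ = a n := by
    intro t n
    exact blockCoeff_conj_invariant B (n : G) t
  have h1 := sum_mul_eq_of_constituent hN χ.2 θ.2 hcon a hainv
  have h2 : (∑ g : G, f g * (χ : G → ℂ) g) / (χ : G → ℂ) 1 = if χ ∈ B then 1 else 0 := by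
    have h := omegaHom_idem B χ
    rw [omegaHom_apply, lin_apply] at h
    exact h
  rw [hsum, h2] at h1
  have hsame : SameBlock M (fun _ : N => (1 : ℂ)) (θ : N → ℂ) := hθ
  have h3 := sum_mul_sub_mem_of_sameBlock M
    (fun n h => rfl) (isClassFunction_of_isIrrCharacter θ.2) hsame a
    (fun n t => blockCoeff_conj_invariant B (n : G) t)
    (fun n => memLocalRing_blockCoeff (Cfsg.Agent.Lib.Blocks.Third.isPBlock_principal M) _)
  rw [← h1] at h3
  have h4 : (∑ n : N, a n * (fun _ : N => (1 : ℂ)) n) / (fun _ : N => (1 : ℂ)) 1 = 1 := by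
    have h5 := hsum (fun _ => 1)
    simp only [mul_one, div_one] at h5 ⊢
    rw [h5]
    exact Cfsg.Agent.Lib.BlockH.Pairs.sum_blockCoeff_principal M
  rw [h4] at h3
  by_contra hχ
  rw [if_neg hχ, sub_zero] at h3
  exact one_notMemLocalIdeal h3

/-- If `p ∣ |G|`, `p` divides the sum of the squares of the degrees of the members of a block. -/
theorem dvd_sum_sq_of_dvd_card [Fintype (IrrCharacter G)] (hM : IsPModular p M)
    {B : Set (IrrCharacter G)} [DecidablePred (· ∈ B)] (hB : IsPBlock M B)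
    (hp : p ∣ Nat.card G) :
    p ∣ ∑ χ : IrrCharacter G, if χ ∈ B then charDegree (χ : G → ℂ) ^ 2 else 0 := by
  classical
  haveI := isPrime_of_pModular hM
  haveI : Fact p.Prime := ⟨hM.1⟩
  obtain ⟨y, hy⟩ := exists_prime_orderOf_dvd_card' (G := G) p hp
  have h1 := Cfsg.Agent.Lib.Blocks.Weak.sum_block_eq_zero hM hB 1 y
    (by rw [orderOf_one]; exact fun h => hM.1.one_lt.ne' (Nat.dvd_one.mp h)) (by rw [hy])
  -- replace `χ (y)` by the degree modulo `M`
  have h2 : ∀ χ : IrrCharacter G, ∃ a ∈ M, ((charDegree (χ : G → ℂ) : ℕ) : ℂ) - conj ((χ : G → ℂ) y) = (a : ℂ) := by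
    rintro ⟨χ, n, ρ, hρ, rfl⟩
    have hy' : orderOf y⁻¹ = p ^ 1 := by rw [orderOf_inv, hy, pow_one]
    obtain ⟨a, ha, hae⟩ := Cfsg.Agent.Lib.BlockH.Basic.finrank_sub_character_mem hM ρ hy'
    refine ⟨a, ha, ?_⟩
    rw [← hae, Cfsg.Agent.Lib.Char.Degree.charDegree_character]
    congr 1
    exact (Cfsg.Agent.Lib.Char.Ortho.char_inv_eq_conj (Cfsg.Agent.Lib.Char.Basic.isCharacter_of_rep ρ) y).symm
  choose a ha hae using h2
  -- the sum of the squares lies in `M`
  set S : ℕ := ∑ χ : IrrCharacter G, if χ ∈ B then charDegree (χ : G → ℂ) ^ 2 else 0 with hS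
  set T : AlgInt := ∑ χ : IrrCharacter G, if χ ∈ B then
      ((charDegree (χ : G → ℂ) : ℕ) : AlgInt) * a χ else 0 with hT
  have hTM : T ∈ M := by
    refine Ideal.sum_mem _ fun χ _ => ?_
    split_ifs
    · exact M.mul_mem_left _ (ha χ)
    · exact M.zero_mem
  have h3 : (S : AlgInt) = T := by
    apply Subtype.ext
    have h4 : ∑ χ : IrrCharacter G, (if χ ∈ B then (χ : G → ℂ) 1 * conj ((χ : G → ℂ) y) else 0) = 0 := h1
    have h5 : ∀ χ : IrrCharacter G, ((if χ ∈ B then ((charDegree (χ : G → ℂ) ^ 2 : ℕ) : ℂ) else 0)) =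
        (if χ ∈ B then (χ : G → ℂ) 1 * conj ((χ : G → ℂ) y) else 0) +
          (((if χ ∈ B then ((charDegree (χ : G → ℂ) : ℕ) : AlgInt) * a χ else 0 : AlgInt)) : ℂ) := by
      intro χ
      split_ifs
      · have h6 := hae χ
        have h7 := Cfsg.Agent.Lib.Char.Degree.charDegree_natCast (isCharacter_of_isIrrCharacter χ.2)
        have h8 : conj ((χ : G → ℂ) y) = ((charDegree (χ : G → ℂ) : ℕ) : ℂ) - (a χ : ℂ) := by
          rw [← h6]; ring
        rw [h8, ← h7]
        push_cast
        ring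
      · simp
    have h9 : ((S : AlgInt) : ℂ) = ∑ χ : IrrCharacter G,
        ((if χ ∈ B then ((charDegree (χ : G → ℂ) ^ 2 : ℕ) : ℂ) else 0)) := by
      rw [hS]
      push_cast
      refine Finset.sum_congr rfl fun χ _ => ?_
      split_ifs <;> simp
    rw [h9, Finset.sum_congr rfl (fun χ _ => h5 χ), Finset.sum_add_distrib, h4, zero_add, hT]
    push_cast
    rfl
  by_contra hnd
  exact Cfsg.Agent.Lib.BlockT.Local.natCast_not_mem hM hnd (h3 ▸ hTM)

end Cfsg.Agent.Lib.BlockCover.Basic
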